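/-
An extraspecial group of order `p ^ (2 w + 1)` faithful on a vector space over the field with `r`
elements needs dimension at least `n * p ^ w`, with `n` the order of `r` modulo `p`.
-/
import Mathlib
import Cfsg.Agent.Lib.Extraspecial.Basic
import Cfsg.Agent.Lib.FpfHeight.Extraspecial

set_option autoImplicit false
set_option linter.style.haveILetI false

namespace Cfsg.Agent.Lib.LAEven56.ExtraBound

open Module Cfsg.Agent.Lib.Extraspecial
open scoped commutatorElement

variable {k : Type*} [Field k] {E : Type*} [Group E] {p : ℕ} [hp : Fact p.Prime] {z : E}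

/-- A nontrivial commutator generates the centre. -/
theorem z_mem_zpowers_of_ne (h : ESData p z) {c : E} (hc : c ∈ Subgroup.zpowers z) (hne : c ≠ 1) :
    z ∈ Subgroup.zpowers c := by
  haveI : Fact (Nat.card (Subgroup.zpowers z)).Prime :=
    ⟨by rw [Nat.card_zpowers, orderOf_eq_prime h.z_pow h.z_ne]; exact hp.out⟩
  have hgen := zpowers_eq_top_of_prime_card (G := Subgroup.zpowers z) rfl (g := ⟨c, hc⟩)
    (fun h1 => hne (congrArg Subtype.val h1))
  have hmem : (⟨z, Subgroup.mem_zpowers z⟩ : Subgroup.zpowers z) ∈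
      Subgroup.zpowers (⟨c, hc⟩ : Subgroup.zpowers z) := hgen ▸ Subgroup.mem_top _
  obtain ⟨i, hi⟩ := Subgroup.mem_zpowers_iff.1 hmem
  exact Subgroup.mem_zpowers_iff.2 ⟨i, by simpa using congrArg Subtype.val hi⟩

/-- An absolute bound: if the centre acts by scalars, not trivially, then `[E : Z(E)] ≤ m²`. -/
theorem index_le_sq [Finite E] (h : ESData p z) {M : Type*} [AddCommGroup M] [Module k M]
    [FiniteDimensional k M] [Nontrivial M] (ρ : E →* Module.End k M)
    (μ : Subgroup.zpowers z →* k) (hμ : ∀ r : Subgroup.zpowers z, ρ r = μ r • 1)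
    (hz : ρ z ≠ 1) (hcard : (Nat.card E : k) ≠ 0) :
    (Subgroup.zpowers z).index ≤ finrank k M * finrank k M := by
  classical
  have hm : 1 ≤ finrank k M * finrank k M := Nat.mul_pos finrank_pos finrank_pos
  by_cases hR : (Subgroup.zpowers z) = ⊤
  · rw [hR, Subgroup.index_top]; exact hm
  haveI : (Subgroup.zpowers z).Normal := ⟨fun r hr g => by
    have h1 := Subgroup.mem_center_iff.1 ((h.mem_center r).2 hr) g
    rw [h1, mul_inv_cancel_right]
    exact hr⟩
  have hcomm : ∀ u y : E, u * y * u⁻¹ * y⁻¹ ∈ (Subgroup.zpowers z) := fun u y => h.comm_mem u y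
  have hS : FpfHeight.Extraspecial.Setup (Subgroup.zpowers z) (1 : MulAut E) μ 1 :=
    { comm := hcomm
      nondeg := by
        intro y hy
        obtain ⟨u, hu⟩ : ∃ u, u * y ≠ y * u := by
          by_contra hne
          push Not at hne
          exact hy ((h.mem_center y).1 (Subgroup.mem_center_iff.2 hne))
        refine ⟨u, fun h1 => ?_⟩
        have hne : ⁅u, y⁆ ≠ 1 := fun hc => hu (commutatorElement_eq_one_iff_mul_comm.1 hc)
        obtain ⟨i, hi⟩ := Subgroup.mem_zpowers_iff.1 (z_mem_zpowers_of_ne h (h.comm_mem u y) hne)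
        apply hz
        have h2 : μ ⟨z, Subgroup.mem_zpowers z⟩ = 1 := by
          have : (⟨z, Subgroup.mem_zpowers z⟩ : (Subgroup.zpowers z)) =
              FpfHeight.Extraspecial.comEl hcomm u y ^ i := Subtype.ext (by
            simpa [FpfHeight.Extraspecial.comEl, commutatorElement_def] using hi.symm)
          rw [this]
          have hu1 : μ.toHomUnits (FpfHeight.Extraspecial.comEl hcomm u y) = 1 := Units.ext h1
          have := congrArg Units.val (map_zpow μ.toHomUnits
            (FpfHeight.Extraspecial.comEl hcomm u y) i)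
          rw [hu1, one_zpow] at this
          exact this
        rw [hμ ⟨z, Subgroup.mem_zpowers z⟩, h2, one_smul]
      ne_top := hR
      inv := fun r hr => hr
      fix := fun r => rfl
      pow := pow_one _
      semireg := fun i h0 h1 => absurd h1 (by omega)
      cast_card := hcard }
  letI := Fintype.ofFinite (E ⧸ (Subgroup.zpowers z))
  have hinj := FpfHeight.Extraspecial.Setup.combo_injective hS (ρ := ρ) hμ
  have hle := LinearMap.finrank_le_finrank_of_injective hinj
  rw [Module.finrank_pi, Module.finrank_linearMap] at hle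
  rw [Subgroup.index_eq_card, Nat.card_eq_fintype_card]
  exact hle

/-- The count, given a field commuting with the action which contains the central element. -/
theorem count [Finite E] {r : ℕ} [hr : Fact r.Prime] (hpr : p ≠ r) (h : ESData p z)
    {w : ℕ} (hE : Nat.card E = p ^ (2 * w + 1)) {W : Type*} [AddCommGroup W] [Module (ZMod r) W]
    [Finite W] [Nontrivial W] {K : Type*} [Field K] [Finite K]
    (φ : K →+* Module.End (ZMod r) W) (σ : E →* Module.End (ZMod r) W)
    (hcomm : ∀ c e, σ e * φ c = φ c * σ e) (zK : K) (hzK : φ zK = σ z) (hz : σ z ≠ 1) (n : ℕ)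
    (hmin : ∀ k : ℕ, 1 ≤ k → p ∣ r ^ k - 1 → n ≤ k) : r ^ (n * p ^ w) ≤ Nat.card W := by
  classical
  letI : Module K W := Module.compHom W φ
  have hsmul : ∀ (c : K) (v : W), c • v = φ c v := fun c v => rfl
  let σK : E →* Module.End K W :=
    { toFun := fun e =>
        { toFun := σ e
          map_add' := map_add (σ e)
          map_smul' := fun c v => by
            rw [RingHom.id_apply, hsmul, hsmul]
            exact LinearMap.congr_fun (hcomm c e) v }
      map_one' := LinearMap.ext fun v => LinearMap.congr_fun (map_one σ) v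
      map_mul' := fun a b => LinearMap.ext fun v => LinearMap.congr_fun (map_mul σ a b) v }
  have hord : orderOf zK = p := by
    refine orderOf_eq_prime (φ.injective ?_) (fun h1 => hz ?_)
    · rw [map_pow, hzK, ← map_pow, h.z_pow, map_one, map_one]
    · rw [← hzK, h1, map_one]
  have h0 : zK ≠ 0 := fun h0 => by
    rw [h0, orderOf_zero] at hord
    exact hp.out.ne_zero hord.symm
  have hmem : ∀ e ∈ Subgroup.zpowers z, ∃ c : K, φ c = σ e := by
    intro e he
    obtain ⟨i, hi⟩ := ((isOfFinOrder_of_finite z).mem_powers_iff_mem_zpowers (y := e)).mpr he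
    exact ⟨zK ^ i, by rw [map_pow, hzK, ← map_pow, ← hi]⟩
  choose sc hsc using hmem
  let μ : Subgroup.zpowers z →* K :=
    { toFun := fun e => sc e e.2
      map_one' := φ.injective (by rw [hsc, map_one]; exact map_one σ)
      map_mul' := fun a b => φ.injective (by
        rw [hsc, map_mul, hsc, hsc]; exact map_mul σ (a : E) b) }
  have hμ : ∀ e : Subgroup.zpowers z, σK e = μ e • 1 := fun e => LinearMap.ext fun v => by
    rw [LinearMap.smul_apply, Module.End.one_apply, hsmul]
    exact (LinearMap.congr_fun (hsc e e.2) v).symm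
  have hzne : σK z ≠ 1 := fun h1 => hz (LinearMap.ext fun v => LinearMap.congr_fun h1 v)
  haveI : Module.Finite K W := Module.Finite.of_finite
  obtain ⟨a, hWr⟩ : ∃ a, Nat.card W = r ^ a :=
    ⟨_, (Module.natCard_eq_pow_finrank (K := ZMod r)).trans (by rw [Nat.card_zmod])⟩
  obtain ⟨f, -, hKr⟩ := (Nat.dvd_prime_pow hr.out).1 (hWr ▸
    (Module.natCard_eq_pow_finrank (K := K) (V := W)) ▸ dvd_pow_self (Nat.card K) finrank_pos.ne')
  have hK1 : 1 < Nat.card K := Finite.one_lt_card
  have hf : 1 ≤ f := by
    by_contra h1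
    rw [hKr, show f = 0 by omega, pow_zero] at hK1
    omega
  haveI := Fintype.ofFinite K
  have hdvd : p ∣ r ^ f - 1 := by
    rw [← hord, ← hKr, Nat.card_eq_fintype_card]
    exact orderOf_dvd_of_pow_eq_one (FiniteField.pow_card_sub_one_eq_one zK h0)
  have hcardK : (Nat.card E : K) ≠ 0 := by
    rw [hE, Nat.cast_pow]
    refine pow_ne_zero _ fun hp0 => ?_
    obtain ⟨v, hv⟩ := exists_ne (0 : W)
    have h1 : (p : ZMod r) • v = 0 := by
      rw [Nat.cast_smul_eq_nsmul, ← Nat.cast_smul_eq_nsmul K, hp0, zero_smul]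
    refine hv ((smul_eq_zero.mp h1).resolve_left ?_)
    rw [ZMod.natCast_eq_zero_iff]
    exact fun e => hpr ((Nat.prime_dvd_prime_iff_eq hr.out hp.out).1 e).symm
  have hsq := index_le_sq h σK μ hμ hzne hcardK
  have hidx : (Subgroup.zpowers z).index = p ^ (2 * w) := by
    have := Subgroup.card_mul_index (Subgroup.zpowers z)
    rw [Nat.card_zpowers, orderOf_eq_prime h.z_pow h.z_ne, hE, pow_succ'] at this
    exact Nat.eq_of_mul_eq_mul_left hp.out.pos this
  rw [hidx, pow_mul', sq] at hsq
  calc r ^ (n * p ^ w) ≤ r ^ (f * finrank K W) :=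
        Nat.pow_le_pow_right hr.out.pos
          (Nat.mul_le_mul (hmin f hf hdvd) (Nat.mul_self_le_mul_self_iff.mp hsq))
    _ = Nat.card W := by rw [Module.natCard_eq_pow_finrank (K := K) (V := W), hKr, ← pow_mul]

/-- The bound for a finite module. -/
theorem pow_le_card [Finite E] {r : ℕ} [hr : Fact r.Prime] (hpr : p ≠ r) (h : ESData p z)
    {w : ℕ} (hE : Nat.card E = p ^ (2 * w + 1)) {V : Type*} [AddCommGroup V] [Module (ZMod r) V]
    [Finite V] (ρ : E →* Module.End (ZMod r) V) (hz : ρ z ≠ 1) (n : ℕ)
    (hmin : ∀ k : ℕ, 1 ≤ k → p ∣ r ^ k - 1 → n ≤ k) : r ^ (n * p ^ w) ≤ Nat.card V := by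
  classical
  have hpk : (p : ZMod r) ≠ 0 := by
    rw [Ne, ZMod.natCast_eq_zero_iff]
    exact fun e => hpr ((Nat.prime_dvd_prime_iff_eq hr.out hp.out).1 e).symm
  set f : Module.End (ZMod r) V := ρ z - 1 with hf
  have hfpow : f.comp 1 = f := LinearMap.comp_id f
  -- the centre has no fixed point on `[V, z]`
  have hnofix : ∀ v ∈ LinearMap.range f, ρ z v = v → v = 0 := by
    rintro v ⟨u, rfl⟩ hv
    set d := f u with hd
    have hzu : ρ z u = u + d := by simp [hd, hf]
    have hiter : ∀ i : ℕ, ρ (z ^ i) u = u + i • d := by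
      intro i
      induction i with
      | zero => simp
      | succ i ih =>
        rw [pow_succ', map_mul, Module.End.mul_apply, ih, map_add, map_nsmul, hv, hzu, succ_nsmul]
        abel
    have := hiter p
    rw [h.z_pow, map_one, Module.End.one_apply] at this
    have h0 : (p : ZMod r) • d = 0 := by
      rw [Nat.cast_smul_eq_nsmul]
      exact add_eq_left.mp this.symm
    exact (smul_eq_zero.mp h0).resolve_left hpk
  have hinv : ∀ e : E, ∀ v ∈ LinearMap.range f, ρ e v ∈ LinearMap.range f := by
    rintro e v ⟨u, rfl⟩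
    refine ⟨ρ e u, ?_⟩
    have := LinearMap.congr_fun (congrArg ρ (commute_z h e)) u
    rw [map_mul, map_mul, Module.End.mul_apply, Module.End.mul_apply] at this
    simp [hf, this]
  let P : Submodule (ZMod r) V → Prop := fun W =>
    W ≠ ⊥ ∧ W ≤ LinearMap.range f ∧ ∀ e : E, ∀ v ∈ W, ρ e v ∈ W
  haveI : Finite (Submodule (ZMod r) V) :=
    Finite.of_injective (fun W : Submodule (ZMod r) V => (W : Set V)) SetLike.coe_injective
  obtain ⟨W, hW⟩ := exists_minimal_of_wellFoundedLT P ⟨LinearMap.range f, by
    refine ⟨fun hb => hz ?_, le_rfl, hinv⟩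
    exact sub_eq_zero.mp (LinearMap.range_eq_bot.mp hb), ⟩
  obtain ⟨⟨hW0, hWr, hWi⟩, hWmin⟩ := hW
  haveI : Nontrivial W := Submodule.nontrivial_iff_ne_bot.mpr hW0
  let σ : E →* Module.End (ZMod r) W :=
    { toFun := fun e => (ρ e).restrict (hWi e)
      map_one' := LinearMap.ext fun v => Subtype.ext (by
        simp [LinearMap.restrict_apply])
      map_mul' := fun a b => LinearMap.ext fun v => Subtype.ext (by
        simp [LinearMap.restrict_apply, Module.End.mul_apply]) }
  have hσ : ∀ e (v : W), (σ e v : V) = ρ e v := fun e v => rfl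
  set ζ : Module.End (ZMod r) W := σ z with hζ
  have hζfix : ∀ v : W, ζ v = v → v = 0 := fun v hv =>
    Subtype.ext (hnofix v (hWr v.2) (by rw [← hσ, ← hζ, hv]))
  have hζne : ζ ≠ 1 := fun h1 => by
    obtain ⟨v, hv⟩ := exists_ne (0 : W)
    exact hv (hζfix v (by rw [h1]; rfl))
  have hcomm : ∀ e, σ e * ζ = ζ * σ e := fun e => by
    rw [hζ, ← map_mul, ← map_mul, commute_z h e]
  -- the algebra generated by `ζ` is a finite field
  set K : Subalgebra (ZMod r) (Module.End (ZMod r) W) := Algebra.adjoin (ZMod r) {ζ} with hK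
  have hKcomm : ∀ x ∈ K, ∀ e, σ e * x = x * σ e := by
    intro x hx e
    have : K ≤ Subalgebra.centralizer (ZMod r) {σ e} := Algebra.adjoin_le (by
      rintro y rfl
      rw [SetLike.mem_coe, Subalgebra.mem_centralizer_iff]
      rintro g rfl
      exact hcomm e)
    exact (Subalgebra.mem_centralizer_iff _).mp (this hx) _ rfl
  have hinjK : ∀ x ∈ K, x ≠ 0 → Function.Injective x := by
    intro x hx hx0
    rw [← LinearMap.ker_eq_bot]
    by_contra hker
    refine hx0 (LinearMap.ext fun v => ?_)
    have hle : (LinearMap.ker x).map W.subtype ≤ W := Submodule.map_subtype_le W _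
    have hP : P ((LinearMap.ker x).map W.subtype) := by
      refine ⟨fun hb => hker ?_, hle.trans hWr, ?_⟩
      · exact Submodule.map_injective_of_injective W.injective_subtype (hb.trans (Submodule.map_bot _).symm)
      · rintro e _ ⟨v, hv, rfl⟩
        refine ⟨σ e v, ?_, hσ e v⟩
        have := LinearMap.congr_fun (hKcomm x hx e) v
        rw [Module.End.mul_apply, Module.End.mul_apply, LinearMap.mem_ker.mp hv, map_zero] at this
        exact LinearMap.mem_ker.mpr this.symm
    have := hWmin hP hle v.2
    obtain ⟨u, hu, hue⟩ := this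
    rw [show v = u from Subtype.ext hue.symm]
    exact hu
  haveI : Finite (Module.End (ZMod r) W) :=
    Finite.of_injective (fun g : Module.End (ZMod r) W => (g : W → W)) DFunLike.coe_injective
  letI : CommRing K :=
    { (inferInstance : Ring K) with
      mul_comm := fun a b => Subtype.ext (by
        have hle : K ≤ Subalgebra.centralizer (ZMod r) (K : Set (Module.End (ZMod r) W)) := by
          refine Algebra.adjoin_le ?_
          rintro y rfl
          rw [SetLike.mem_coe, Subalgebra.mem_centralizer_iff]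
          intro g hg
          exact ((hKcomm g hg z).symm : g * ζ = ζ * g)
        exact (Subalgebra.mem_centralizer_iff _).mp (hle b.2) _ a.2) }
  haveI : NoZeroDivisors K := ⟨fun {a b} hab => by
    by_contra hne
    push Not at hne
    refine hne.2 (Subtype.ext (LinearMap.ext fun v => hinjK _ a.2 (fun h0 => hne.1 (Subtype.ext h0)) ?_))
    have := LinearMap.congr_fun (congrArg Subtype.val hab) v
    simpa using this⟩
  haveI : IsDomain K := NoZeroDivisors.to_isDomain K
  letI : Field K := (Finite.isDomain_to_isField K).toField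
  haveI : Finite K := Finite.of_injective (fun x : K => (x : Module.End (ZMod r) W)) Subtype.val_injective
  exact (count (W := W) hpr h hE (K.val : K →ₐ[ZMod r] Module.End (ZMod r) W).toRingHom σ
    (fun c e => hKcomm c.1 c.2 e) ⟨ζ, Algebra.subset_adjoin rfl⟩ rfl hζne n hmin).trans
    (Nat.card_le_card_of_injective _ W.injective_subtype)

/-- An action on an abelian group of exponent `r` as a linear representation. -/
def rep {r : ℕ} {A : Type*} [CommGroup A] [Module (ZMod r) (Additive A)] (φ : E →* MulAut A) :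
    E →* Module.End (ZMod r) (Additive A) where
  toFun e := (MonoidHom.toAdditive (φ e).toMonoidHom).toZModLinearMap r
  map_one' := LinearMap.ext fun v => by
    show Additive.ofMul (φ 1 (Additive.toMul v)) = v
    rw [map_one]; rfl
  map_mul' a b := LinearMap.ext fun v => by
    show Additive.ofMul (φ (a * b) (Additive.toMul v)) =
      Additive.ofMul (φ a (φ b (Additive.toMul v)))
    rw [map_mul]; rfl

theorem rep_ne_one {r : ℕ} {A : Type*} [CommGroup A] [Module (ZMod r) (Additive A)]
    (φ : E →* MulAut A) {e : E} (he : φ e ≠ 1) : rep (r := r) φ e ≠ 1 := fun h =>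
  he (MulEquiv.ext fun a => congrArg Additive.toMul (LinearMap.congr_fun h (Additive.ofMul a)))

/-- The bound for an action on a finite abelian group of exponent `r`. -/
theorem pow_le_card_of_action [Finite E] {r : ℕ} [hr : Fact r.Prime] (hpr : p ≠ r)
    (h : ESData p z) {w : ℕ} (hE : Nat.card E = p ^ (2 * w + 1)) {A : Type*} [CommGroup A]
    [Finite A] (hexp : ∀ a : A, a ^ r = 1) (φ : E →* MulAut A) (hz : φ z ≠ 1) (n : ℕ)
    (hmin : ∀ k : ℕ, 1 ≤ k → p ∣ r ^ k - 1 → n ≤ k) : r ^ (n * p ^ w) ≤ Nat.card A := by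
  letI : Module (ZMod r) (Additive A) := AddCommGroup.zmodModule fun v => hexp (Additive.toMul v)
  exact (pow_le_card hpr h hE _ (rep_ne_one (r := r) φ hz) n hmin).trans_eq
    (Nat.card_congr Additive.toMul)

end Cfsg.Agent.Lib.LAEven56.ExtraBound
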